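import Groth.Agent.L05.NeronFinite.Land
import Groth.Agent.L05.UnibranchEtale.Main
import Groth.Agent.L26.Neron.Formal
import Mathlib.CategoryTheory.Comma.Over.Pullback

/-!
# The smooth locus of a finite normal scheme over a normal base has the Néron mapping property
-/

set_option autoImplicit false
set_option linter.style.haveILetI false
set_option backward.isDefEq.respectTransparency false

universe u

open CategoryTheory CategoryTheory.Limits AlgebraicGeometry TopologicalSpace Opposite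

noncomputable section

namespace Groth.L05.NeronFinite

theorem mapping_open {S : Scheme.{u}} [IsLocallyNoetherian S] (hS : Pi1.IsNormalScheme S) (S₀ : S.Opens)
    (hd : Dense (S₀ : Set S)) {T : Scheme.{u}} (π : T ⟶ S) [IsFinite π] [LocallyOfFinitePresentation π]
    (hT : Pi1.IsNormalScheme T) (O : T.Opens) (hle : O ≤ π.smoothLocus)
    (hO : ∀ t ∈ π.smoothLocus, t ∉ O → t ∈ closure {t : T | π t ∈ S₀ ∧ t ∉ O}) (Z : Over S) [Smooth Z.hom] :
    Function.Bijective (fun g : Z ⟶ Over.mk (O.ι ≫ π) => (Over.pullback S₀.ι).map g) := by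
  let e := pullbackRestrictIsoRestrict Z.hom S₀
  have hmap : ∀ g : Z ⟶ Over.mk (O.ι ≫ π),
      ((Over.pullback S₀.ι).map g).left ≫ pullback.fst (O.ι ≫ π) S₀.ι =
        pullback.fst Z.hom S₀.ι ≫ g.left := fun g => by simp
  refine ⟨fun g g' hgg => ?_, fun θ => ?_⟩
  · refine Over.OverMorphism.ext ?_
    rw [← cancel_mono O.ι]
    refine ext_of_dense π hS S₀ hd Z.hom _ _ ?_ ?_ ?_
    · rw [Category.assoc]; exact Over.w g
    · rw [Category.assoc]; exact Over.w g'
    · have h := congrArg (fun t => t.left ≫ pullback.fst (O.ι ≫ π) S₀.ι) hgg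
      simp only [hmap] at h
      rw [← pullbackRestrictIsoRestrict_inv_fst Z.hom S₀]
      simp only [Category.assoc, reassoc_of% h]
  · let g₀ : (Z.hom ⁻¹ᵁ S₀).toScheme ⟶ T :=
      e.inv ≫ θ.left ≫ pullback.fst (O.ι ≫ π) S₀.ι ≫ O.ι
    have hw : θ.left ≫ pullback.snd (O.ι ≫ π) S₀.ι = pullback.snd Z.hom S₀.ι := Over.w θ
    have hg₀ : g₀ ≫ π = (Z.hom ⁻¹ᵁ S₀).ι ≫ Z.hom := by
      simp only [g₀, Category.assoc]
      rw [pullback.condition, reassoc_of% hw, ← pullback.condition, ← Category.assoc]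
      exact congrArg (· ≫ Z.hom) (pullbackRestrictIsoRestrict_inv_fst Z.hom S₀)
    obtain ⟨g, hg, hg'⟩ := exists_extend π hS S₀ hd Z.hom g₀ hg₀
    let l : Z.left ⟶ O.toScheme := IsOpenImmersion.lift O.ι g (by
      rw [Scheme.Opens.range_ι]
      rintro _ ⟨z, rfl⟩
      have hz : g z ∈ π.smoothLocus := mem_smoothLocus π hS hT Z.hom g hg z
      by_contra hzO
      haveI : Smooth (π.smoothLocus.ι ≫ π) := by
        rw [← Scheme.Hom.smoothLocus_eq_top_iff, ← Scheme.Hom.preimage_smoothLocus_eq, Scheme.Opens.ι_preimage_self]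
      haveI : Etale (π.smoothLocus.ι ≫ π) := Groth.L05.UnibranchEtale.etale_of_smooth_of_locallyQuasiFinite _
      let m : Z.left ⟶ π.smoothLocus.toScheme := IsOpenImmersion.lift π.smoothLocus.ι g (by
        rw [Scheme.Opens.range_ι]
        rintro _ ⟨a, rfl⟩
        exact mem_smoothLocus π hS hT Z.hom g hg a)
      have hm : m ≫ π.smoothLocus.ι = g := IsOpenImmersion.lift_fac _ _ _
      haveI : Smooth (m ≫ π.smoothLocus.ι ≫ π) := by rw [reassoc_of% hm, hg]; infer_instance
      haveI : Smooth m := Groth.Agent.NeronL.smooth_of_comp_etale m (π.smoothLocus.ι ≫ π)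
      have hopen : IsOpen (Set.range g) := by
        rw [← hm, Scheme.Hom.comp_base, TopCat.coe_comp, Set.range_comp]
        exact π.smoothLocus.ι.isOpenEmbedding.isOpenMap _ (Scheme.Hom.isOpenMap m).isOpen_range
      obtain ⟨_, ⟨a, rfl⟩, haS, haO⟩ := mem_closure_iff.1 (hO _ hz hzO) _ hopen ⟨z, rfl⟩
      have haS' : Z.hom a ∈ S₀ := by rwa [← hg]
      have ha : (Z.hom ⁻¹ᵁ S₀).ι ≫ g = g₀ := hg'
      have hmem : g a ∈ Set.range O.ι := by
        have h1 : g a = g₀ ⟨a, haS'⟩ := by rw [← ha]; rfl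
        rw [h1]
        exact ⟨_, rfl⟩
      rw [Scheme.Opens.range_ι] at hmem
      exact haO hmem)
    have hl : l ≫ O.ι = g := IsOpenImmersion.lift_fac _ _ _
    let G : Z ⟶ Over.mk (O.ι ≫ π) := Over.homMk l (by
      show l ≫ O.ι ≫ π = Z.hom
      rw [reassoc_of% hl, hg])
    refine ⟨G, Over.OverMorphism.ext ?_⟩
    refine pullback.hom_ext ?_ ?_
    · refine (hmap G).trans ?_
      rw [← cancel_mono O.ι]
      show (pullback.fst Z.hom S₀.ι ≫ l) ≫ _ = _
      rw [Category.assoc, hl, ← cancel_epi e.inv, ← Category.assoc, pullbackRestrictIsoRestrict_inv_fst, hg']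
      simp only [g₀, Category.assoc]
      rfl
    · exact (Over.w ((Over.pullback S₀.ι).map G)).trans hw.symm

theorem mapping_smoothLocus {S : Scheme.{u}} [IsLocallyNoetherian S] (hS : Pi1.IsNormalScheme S) (S₀ : S.Opens)
    (hd : Dense (S₀ : Set S)) {T : Scheme.{u}} (π : T ⟶ S) [IsFinite π] [LocallyOfFinitePresentation π]
    (hT : Pi1.IsNormalScheme T) (Z : Over S) [Smooth Z.hom] :
    Function.Bijective (fun g : Z ⟶ Over.mk (π.smoothLocus.ι ≫ π) => (Over.pullback S₀.ι).map g) :=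
  mapping_open hS S₀ hd π hT π.smoothLocus le_rfl (fun _ h h' => absurd h h') Z

end Groth.L05.NeronFinite
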