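import Groth.Agent.L05.NeronFinite.Normalization
import Groth.Agent.L06.NormalTotalQuot
import Groth.Agent.L06.NormalTensorApps
import Groth.Agent.L05.NeronFinite.Mapping
import Groth.Prelude.Def_Neron
import Mathlib.RingTheory.DedekindDomain.IntegralClosure
import Mathlib.RingTheory.Localization.BaseChange
import Groth.Agent.L23.LocalDimEtale

/-!
# Integral closures in finite étale algebras: Néron models
-/

set_option autoImplicit false
set_option linter.style.haveILetI false
set_option backward.isDefEq.respectTransparency false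

universe u

open CategoryTheory CategoryTheory.Limits AlgebraicGeometry TopologicalSpace Opposite
open scoped TensorProduct nonZeroDivisors

noncomputable section

namespace Groth.L05.NeronFinite

theorem isNormalScheme_spec {C : CommRingCat.{u}} (h : EGA4.IsNormalRing C) : Pi1.IsNormalScheme (Spec C) := fun p => by
  let e : ((Spec C).presheaf.stalk p) ≃+* Localization.AtPrime p.asIdeal := (StructureSheaf.stalkIso C p).toRingEquiv.symm
  haveI := (h p.asIdeal).1
  haveI := (h p.asIdeal).2
  exact ⟨e.toMulEquiv.isDomain _, IsIntegrallyClosed.of_equiv e.symm⟩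

theorem isNormalRing_of_affine {S : Scheme.{u}} (hS : Pi1.IsNormalScheme S) {U : S.Opens} (hU : IsAffineOpen U) :
    EGA4.IsNormalRing Γ(S, U) := by
  intro p hp
  let y : S := hU.fromSpec ⟨p, hp⟩
  have hyU : y ∈ U := hU.range_fromSpec.le ⟨_, rfl⟩
  letI : Algebra Γ(S, U) (S.presheaf.stalk y) := (S.presheaf.germ U y hyU).hom.toAlgebra
  haveI : IsLocalization.AtPrime (S.presheaf.stalk y) p := hU.isLocalization_stalk' ⟨p, hp⟩ hyU
  let e : Localization.AtPrime p ≃+* S.presheaf.stalk y :=
    (IsLocalization.algEquiv p.primeCompl (Localization.AtPrime p) (S.presheaf.stalk y)).toRingEquiv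
  haveI := (hS y).1
  haveI := (hS y).2
  exact ⟨e.toMulEquiv.isDomain _, IsIntegrallyClosed.of_equiv e.symm⟩

section Algebra

variable (R K : Type u) [CommRing R] [IsDomain R] [Field K] [Algebra R K] [IsFractionRing R K]
  (E : Type u) [CommRing E] [Algebra K E] [Algebra R E] [IsScalarTower R K E] [Module.Finite K E] [IsReduced E]

include K

theorem isNormalRing_integralClosure : EGA4.IsNormalRing (integralClosure R E) := by
  haveI : IsArtinianRing E := IsArtinianRing.of_finite K E
  have hN := Groth.L06.NormalTensor.normalRing_of_artinian (R := E)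
  refine (Groth.L06.NormalTensor.normal_of_integrallyClosedIn (algebraMap (integralClosure R E) E)
    Subtype.val_injective (fun y hy => ?_) hN (Groth.L06.NormalTensor.idem_of_normal_noetherian hN)).1
  exact ⟨⟨y, isIntegral_trans (A := integralClosure R E) y hy⟩, rfl⟩

theorem isLocalization_integralClosure :
    IsLocalization (Algebra.algebraMapSubmonoid (integralClosure R E) R⁰) E := by
  refine ⟨?_, fun z => ?_, fun {x y} h => ⟨1, by rw [Subtype.ext h]⟩⟩
  · rintro ⟨_, r, hr, rfl⟩
    show IsUnit ((algebraMap R (integralClosure R E) r : E))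
    rw [show (algebraMap R (integralClosure R E) r : E) = algebraMap R E r from rfl,
      IsScalarTower.algebraMap_apply R K E]
    exact (IsUnit.mk0 _ ((map_ne_zero_iff _ (IsFractionRing.injective R K)).2 (nonZeroDivisors.ne_zero hr))).map _
  · have hint : IsIntegral K z := IsIntegral.of_finite K z
    obtain ⟨m, hm⟩ := hint.exists_multiple_integral_of_isLocalization (M := R⁰) z
    refine ⟨⟨⟨(m : R) • z, hm⟩, algebraMap R (integralClosure R E) m, m, m.2, rfl⟩, ?_⟩
    show z * algebraMap R E m = (m : R) • z
    rw [Algebra.smul_def, mul_comm]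

end Algebra

variable (R : Type u) [CommRing R] [IsDomain R] (E : Type u) [CommRing E] [Algebra (FractionRing R) E]
  [Algebra R E] [IsScalarTower R (FractionRing R) E] [Module.Finite (FractionRing R) E] [IsReduced E]

/-- The map to the spectrum of the integral closure. -/
def πC : Spec (CommRingCat.of (integralClosure R E)) ⟶ Spec (CommRingCat.of R) :=
  Spec.map (CommRingCat.ofHom (algebraMap R (integralClosure R E)))

/-- The generic fibre of the spectrum of the integral closure. -/
theorem isPullback_jC : IsPullback (Spec.map (CommRingCat.ofHom (algebraMap (integralClosure R E) E)))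
    (Spec.map (CommRingCat.ofHom (algebraMap (FractionRing R) E))) (πC R E) (Neron.genPt R) := by
  haveI := isLocalization_integralClosure R (FractionRing R) E
  haveI : Algebra.IsPushout R (integralClosure R E) (FractionRing R) E :=
    Algebra.isPushout_of_isLocalization R⁰ (FractionRing R) (integralClosure R E) E
  exact isPullback_SpecMap_of_isPushout _ _ _ _ (CommRingCat.isPushout_iff_isPushout.2 ‹_›)

omit E in
/-- The generic fibre of a flat scheme is dense. -/
theorem isDominant_fst {V : Scheme.{u}} (f : V ⟶ Spec (CommRingCat.of R)) [Flat f] :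
    IsDominant (pullback.fst f (Neron.genPt R)) := by
  refine ⟨?_⟩
  rw [DenseRange, dense_iff_inter_open]
  intro W hW ⟨w, hw⟩
  obtain ⟨b, hb, hbη⟩ := Flat.generalizingMap f
    ((PrimeSpectrum.le_iff_specializes (⊥ : PrimeSpectrum R) (f w)).1 bot_le)
  obtain ⟨c, hc, -⟩ := Scheme.Pullback.exists_preimage_pullback (f := f) (g := Neron.genPt R) b
    (⊥ : PrimeSpectrum (FractionRing R)) (hbη.trans (by
      symm
      refine PrimeSpectrum.ext ?_
      show Ideal.comap (algebraMap R (FractionRing R)) ⊥ = ⊥
      rw [← RingHom.ker_eq_comap_bot]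
      exact (RingHom.injective_iff_ker_eq_bot _).1 (IsFractionRing.injective R (FractionRing R))))
  exact ⟨b, hb.mem_open hW hw, c, hc⟩

/-- Extension of maps on generic fibres of normal flat schemes into the spectrum of the integral closure. -/
theorem exists_extend_generic {Y : Scheme.{u}} (f : Y ⟶ Spec (CommRingCat.of R)) [Flat f]
    (hY : Pi1.IsNormalScheme Y) (θ : pullback f (Neron.genPt R) ⟶ Spec (CommRingCat.of E))
    (hθ : θ ≫ Spec.map (CommRingCat.ofHom (algebraMap (FractionRing R) E)) = pullback.snd f (Neron.genPt R)) :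
    ∃ g : Y ⟶ Spec (CommRingCat.of (integralClosure R E)), g ≫ πC R E = f ∧
      pullback.fst f (Neron.genPt R) ≫ g = θ ≫ Spec.map (CommRingCat.ofHom (algebraMap (integralClosure R E) E)) := by
  haveI : IsReduced Y := Groth.L25.Extend.isReduced_of_normal hY
  let K := FractionRing R
  let jC := Spec.map (CommRingCat.ofHom (algebraMap (integralClosure R E) E))
  let θ' := θ ≫ jC
  have hθ' : θ' ≫ πC R E = pullback.fst f (Neron.genPt R) ≫ f := by
    rw [Category.assoc, (isPullback_jC R E).w, reassoc_of% hθ, pullback.condition]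
  haveI hdom : ∀ {V : Scheme.{u}} (i : V ⟶ Y) [IsOpenImmersion i], IsDominant (pullback.fst (i ≫ f) (Neron.genPt R)) :=
    fun i _ => isDominant_fst R (i ≫ f)
  have huniq : ∀ {V : Scheme.{u}} (i : V ⟶ Y) [IsOpenImmersion i] (a b : V ⟶ Spec (CommRingCat.of (integralClosure R E))),
      pullback.fst (i ≫ f) (Neron.genPt R) ≫ a = pullback.fst (i ≫ f) (Neron.genPt R) ≫ b → a ≫ πC R E = i ≫ f →
      b ≫ πC R E = i ≫ f → a = b := by
    intro V i _ a b h ha hb
    haveI : IsReduced V := isReduced_of_isOpenImmersion i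
    exact ext_of_isDominant_of_isSeparated (πC R E) (ha.trans hb.symm) (pullback.fst (i ≫ f) (Neron.genPt R)) h
  let res : ∀ {V : Scheme.{u}} (i : V ⟶ Y), pullback (i ≫ f) (Neron.genPt R) ⟶ pullback f (Neron.genPt R) := fun i =>
    pullback.lift (pullback.fst _ _ ≫ i) (pullback.snd _ _) (by rw [Category.assoc]; exact pullback.condition)
  have haff : ∀ (U : Y.affineOpens), ∃ g : U.1.toScheme ⟶ Spec (CommRingCat.of (integralClosure R E)),
      g ≫ πC R E = U.1.ι ≫ f ∧ pullback.fst (U.1.ι ≫ f) (Neron.genPt R) ≫ g = res U.1.ι ≫ θ' := by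
    intro U
    let A := Γ(Y, U.1)
    obtain ⟨ρ, hρ⟩ := Spec.map_surjective (U.2.isoSpec.inv ≫ U.1.ι ≫ f)
    letI : Algebra R A := ρ.hom.toAlgebra
    haveI : Module.Flat R A := by
      have h : Flat (Spec.map ρ) := by rw [hρ]; infer_instance
      exact RingHom.flat_algebraMap_iff.mp (HasRingHomProperty.Spec_iff.mp h)
    have hpb : IsPullback (Spec.map (CommRingCat.ofHom (algebraMap A (A ⊗[R] K))) ≫ U.2.isoSpec.inv)
        (Spec.map (CommRingCat.ofHom (Algebra.TensorProduct.includeRight : K →ₐ[R] A ⊗[R] K).toRingHom))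
        (U.1.ι ≫ f) (Neron.genPt R) := by
      refine (isPullback_SpecMap_of_isPushout _ _ _ _ (CommRingCat.isPushout_tensorProduct R A K)).of_iso
        (Iso.refl _) U.2.isoSpec.symm (Iso.refl _) (Iso.refl _) (by simp; try rfl) (by simp; try rfl) ?_ (by simp; try rfl)
      rw [Iso.refl_hom, Category.comp_id, Iso.symm_hom]
      exact hρ
    let e := hpb.isoPullback
    obtain ⟨ψ, hψ⟩ := Spec.map_surjective (e.hom ≫ res U.1.ι ≫ θ')
    have hψR : ∀ r, ψ (algebraMap R (integralClosure R E) r) = algebraMap A (A ⊗[R] K) (algebraMap R A r) := by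
      intro r
      have h1 : Spec.map (CommRingCat.ofHom (algebraMap R (integralClosure R E)) ≫ ψ) =
          Spec.map (ρ ≫ CommRingCat.ofHom (algebraMap A (A ⊗[R] K))) := by
        rw [Spec.map_comp, Spec.map_comp, hρ, hψ]
        show (e.hom ≫ res U.1.ι ≫ θ') ≫ πC R E = _
        rw [Category.assoc, Category.assoc, hθ', pullback.lift_fst_assoc, Category.assoc]
        exact hpb.isoPullback_hom_fst_assoc _
      exact congr($(Spec.map_injective h1) r)
    have hinj : Function.Injective (algebraMap A (A ⊗[R] K)) :=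
      Algebra.TensorProduct.includeLeft_injective (S := A) (IsFractionRing.injective R K)
    haveI : IsLocalization (Algebra.algebraMapSubmonoid A R⁰) (A ⊗[R] K) :=
      IsLocalization.tensor K R⁰
    have hrange : ∀ c, ∃ a, algebraMap A (A ⊗[R] K) a = ψ c := by
      intro c
      obtain ⟨P, hP, hPc⟩ := (IsIntegralClosure.isIntegral R E c : IsIntegral R c)
      have hint : (algebraMap A (A ⊗[R] K)).IsIntegralElem (ψ c) := by
        refine ⟨P.map (algebraMap R A), hP.map _, ?_⟩
        rw [Polynomial.eval₂_map]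
        have h2 := congrArg ψ.hom hPc
        rw [Polynomial.hom_eval₂, map_zero] at h2
        refine Eq.trans ?_ h2
        congr 1
        exact RingHom.ext fun r => (hψR r).symm
      obtain ⟨⟨a, ⟨_, r, hr, rfl⟩⟩, hab⟩ := IsLocalization.surj (Algebra.algebraMapSubmonoid A R⁰) (ψ c)
      refine Groth.L06.NormalTotalQuot.mem_range_of_normal (algebraMap A (A ⊗[R] K)) hinj
        (isNormalRing_of_affine hY U.2) hint (b := algebraMap R A r) ?_ ?_ hab
      · refine mem_nonZeroDivisors_iff_right.2 fun x hx => ?_
        have h := Module.Flat.isSMulRegular_of_isRegular (M := A) (isRegular_iff_ne_zero.2 (nonZeroDivisors.ne_zero hr))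
        refine h (show r • x = r • (0 : A) from ?_)
        rw [smul_zero, Algebra.smul_def, mul_comm]
        exact hx
      · exact IsLocalization.map_units (A ⊗[R] K) (⟨_, r, hr, rfl⟩ : Algebra.algebraMapSubmonoid A R⁰)
    choose γ hγ using hrange
    let γh : CommRingCat.of (integralClosure R E) ⟶ A := CommRingCat.ofHom
      { toFun := γ
        map_one' := hinj (by rw [hγ, map_one, map_one])
        map_mul' := fun a b => hinj (by rw [hγ, map_mul, map_mul, hγ, hγ])
        map_zero' := hinj (by rw [hγ, map_zero, map_zero])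
        map_add' := fun a b => hinj (by rw [hγ, map_add, map_add, hγ, hγ]) }
    refine ⟨U.2.isoSpec.hom ≫ Spec.map γh, ?_, ?_⟩
    · have h : CommRingCat.ofHom (algebraMap R (integralClosure R E)) ≫ γh = ρ := by
        ext r
        exact hinj ((hγ _).trans (hψR r))
      rw [Category.assoc, πC, ← Spec.map_comp, h, hρ, Iso.hom_inv_id_assoc]
    · rw [← cancel_epi e.hom, ← hψ, ← Category.assoc e.hom, show e.hom ≫ pullback.fst _ _ = _ from hpb.isoPullback_hom_fst,
        Category.assoc, Iso.inv_hom_id_assoc, ← Spec.map_comp]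
      congr 1
      ext c
      exact hγ c
  choose g hgπ hgθ using haff
  let 𝒰 := Y.openCoverOfIsOpenCover (fun U : Y.affineOpens => U.1) (IsOpenCover.mk (iSup_affineOpens_eq_top Y))
  have hglue : ∀ a b : Y.affineOpens, pullback.fst a.1.ι b.1.ι ≫ g a = pullback.snd a.1.ι b.1.ι ≫ g b := by
    intro a b
    let i := pullback.fst a.1.ι b.1.ι ≫ a.1.ι
    refine huniq i _ _ ?_ (by rw [Category.assoc, hgπ, Category.assoc])
      (by rw [Category.assoc, hgπ, ← Category.assoc, ← pullback.condition])
    let ra : pullback (i ≫ f) (Neron.genPt R) ⟶ pullback (a.1.ι ≫ f) (Neron.genPt R) :=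
      pullback.lift (pullback.fst _ _ ≫ pullback.fst _ _) (pullback.snd _ _) (by
        rw [← pullback.condition]; simp [i, Category.assoc])
    let rb : pullback (i ≫ f) (Neron.genPt R) ⟶ pullback (b.1.ι ≫ f) (Neron.genPt R) :=
      pullback.lift (pullback.fst _ _ ≫ pullback.snd _ _) (pullback.snd _ _) (by
        rw [← pullback.condition (f := i ≫ f)]; simp [i, pullback.condition_assoc, Category.assoc])
    have ha : ra ≫ pullback.fst _ _ = pullback.fst (i ≫ f) (Neron.genPt R) ≫ pullback.fst _ _ := pullback.lift_fst _ _ _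
    have hb : rb ≫ pullback.fst _ _ = pullback.fst (i ≫ f) (Neron.genPt R) ≫ pullback.snd _ _ := pullback.lift_fst _ _ _
    rw [← reassoc_of% ha, ← reassoc_of% hb, hgθ, hgθ, ← Category.assoc ra, ← Category.assoc rb]
    refine congrArg (· ≫ θ') ?_
    refine pullback.hom_ext ?_ ?_
    · simp [res, ra, rb, pullback.condition]
    · simp [res, ra, rb]
  let G := 𝒰.glueMorphisms g hglue
  have hGπ : G ≫ πC R E = f := 𝒰.hom_ext _ _ fun U => by
    rw [← Category.assoc, Scheme.Cover.ι_glueMorphisms]; exact hgπ U
  refine ⟨G, hGπ, ?_⟩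
  refine Scheme.Cover.hom_ext (𝒰.pullback₁ (pullback.fst f (Neron.genPt R))) _ _ fun U => ?_
  show pullback.fst (pullback.fst f (Neron.genPt R)) U.1.ι ≫ pullback.fst f (Neron.genPt R) ≫ G =
    pullback.fst (pullback.fst f (Neron.genPt R)) U.1.ι ≫ θ'
  rw [pullback.condition_assoc, show U.1.ι ≫ G = g U from 𝒰.ι_glueMorphisms _ _ U]
  let l : pullback (pullback.fst f (Neron.genPt R)) U.1.ι ⟶ pullback (U.1.ι ≫ f) (Neron.genPt R) :=
    pullback.lift (pullback.snd _ _) (pullback.fst _ _ ≫ pullback.snd _ _) (by
      rw [Category.assoc, ← pullback.condition, pullback.condition_assoc])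
  rw [← show l ≫ pullback.fst _ _ = pullback.snd _ _ from pullback.lift_fst _ _ _, Category.assoc, hgθ, ← Category.assoc]
  congr 1
  refine pullback.hom_ext ?_ ?_
  · simp [res, l, pullback.condition]
  · simp [res, l]

omit R E in
theorem injective_of_flat_local {A B : Type u} [CommRing A] [CommRing B] [IsLocalRing A] [IsLocalRing B]
    (φ : A →+* B) (hφ : φ.Flat) [IsLocalHom φ] : Function.Injective φ := by
  letI := φ.toAlgebra
  haveI : Module.Flat A B := hφ
  haveI : IsLocalHom (algebraMap A B) := ‹IsLocalHom φ›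
  haveI : Module.FaithfullyFlat A B := Module.FaithfullyFlat.of_flat_of_isLocalHom
  exact FaithfulSMul.algebraMap_injective A B

theorem finite_integralClosure_etale [IsDedekindDomain R] [Algebra.Etale (FractionRing R) E] :
    Module.Finite R (integralClosure R E) := by
  obtain ⟨I, hI, L, hL, hKL, e, h⟩ := (Algebra.Etale.iff_exists_algEquiv_prod (K := FractionRing R) (A := E)).1 inferInstance
  letI hAL : ∀ i, Algebra R (L i) := fun i => ((algebraMap (FractionRing R) (L i)).comp (algebraMap R (FractionRing R))).toAlgebra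
  haveI hT : ∀ i, IsScalarTower R (FractionRing R) (L i) := fun i => IsScalarTower.of_algebraMap_eq fun _ => rfl
  haveI : ∀ i, IsNoetherian R (integralClosure R (L i)) := fun i => by
    haveI := (h i).1
    haveI := (h i).2
    exact IsIntegralClosure.isNoetherian R (FractionRing R) (L i) (integralClosure R (L i))
  let ψ : integralClosure R E →ₗ[R] Π i, integralClosure R (L i) := LinearMap.pi fun i =>
    (AlgHom.mapIntegralClosure ((Pi.evalAlgHom R L i).comp (e.toAlgHom.restrictScalars R))).toLinearMap
  exact Module.Finite.of_injective ψ fun x y hxy =>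
    Subtype.ext (e.injective (funext fun i => congrArg Subtype.val (congrFun hxy i)))

theorem exists_neronModel_spec [IsDedekindDomain R] [Algebra.Etale (FractionRing R) E] :
    ∃ (N : Over (Spec (CommRingCat.of R)))
      (e : (Neron.genericFibre R).obj N ≅ Over.mk (Spec.map (CommRingCat.ofHom (algebraMap (FractionRing R) E)))),
      Neron.IsNeronModelOf R N _ e ∧ Etale N.hom ∧ LocallyQuasiFinite N.hom := by
  let gE := Spec.map (CommRingCat.ofHom (algebraMap (FractionRing R) E))
  let jC := Spec.map (CommRingCat.ofHom (algebraMap (integralClosure R E) E))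
  haveI := finite_integralClosure_etale R E
  haveI : IsNoetherianRing (CommRingCat.of R) := inferInstanceAs (IsNoetherianRing R)
  let π := πC R E
  haveI : IsFinite π := (IsFinite.SpecMap_iff _).2 (RingHom.finite_algebraMap.2 inferInstance)
  haveI : LocallyOfFinitePresentation π := Groth.L05.SmoothCrit.lfp_of_noetherian π
  have hS : Pi1.IsNormalScheme (Spec (CommRingCat.of R)) :=
    isNormalScheme_spec (Groth.L06.NormalTensor.normalRing_of_domain (R := R))
  have hT : Pi1.IsNormalScheme (Spec (CommRingCat.of (integralClosure R E))) :=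
    isNormalScheme_spec (isNormalRing_integralClosure R (FractionRing R) E)
  haveI : Flat (Neron.genPt R) := by
    haveI : Module.Flat R (FractionRing R) := IsLocalization.flat (FractionRing R) R⁰
    exact HasRingHomProperty.Spec_iff.mpr (RingHom.flat_algebraMap_iff.mpr inferInstance)
  haveI : IsPreimmersion (Neron.genPt R) := IsPreimmersion.of_isLocalization R⁰
  haveI : Flat jC := MorphismProperty.of_isPullback (P := @Flat) (isPullback_jC R E).flip inferInstance
  haveI : IsPreimmersion jC := MorphismProperty.of_isPullback (P := @IsPreimmersion) (isPullback_jC R E).flip inferInstance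
  haveI : Etale gE := (HasRingHomProperty.Spec_iff (P := @Etale)).mpr (RingHom.etale_algebraMap.2 inferInstance)
  have hbij : ∀ {V W : Scheme.{u}} (g : V ⟶ W) [Flat g] [IsPreimmersion g] (v : V),
      Function.Bijective (g.stalkMap v).hom := fun g _ _ v =>
    ⟨injective_of_flat_local _ (Flat.stalkMap g v), g.stalkMap_surjective v⟩
  have hsm : ∀ q, jC q ∈ π.smoothLocus := fun q => by
    have h1 : ((jC ≫ π).stalkMap q).hom.FormallySmooth := by
      rw [show jC ≫ π = gE ≫ Neron.genPt R from (isPullback_jC R E).w, Scheme.Hom.stalkMap_comp, CommRingCat.hom_comp]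
      refine RingHom.FormallySmooth.stableUnderComposition _ _ ?_ ?_
      · exact RingHom.FormallySmooth.of_bijective (hbij (Neron.genPt R) (gE q))
      · have h : q ∈ gE.smoothLocus := by rw [Scheme.Hom.smoothLocus_eq_top]; trivial
        exact h
    rw [Scheme.Hom.stalkMap_comp, CommRingCat.hom_comp] at h1
    haveI : IsIso (jC.stalkMap q) := (ConcreteCategory.isIso_iff_bijective _).2 (hbij jC q)
    exact (RingHom.FormallySmooth.respectsIso.cancel_right_isIso (π.stalkMap (jC q)) (jC.stalkMap q)).1 h1
  let k : Spec (CommRingCat.of E) ⟶ π.smoothLocus.toScheme := IsOpenImmersion.lift π.smoothLocus.ι jC (by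
    rw [Scheme.Opens.range_ι]; rintro _ ⟨q, rfl⟩; exact hsm q)
  have hk : k ≫ π.smoothLocus.ι = jC := IsOpenImmersion.lift_fac _ _ _
  have hpb : IsPullback k (𝟙 _ ≫ gE) (π.smoothLocus.ι ≫ π) (Neron.genPt R) := by
    refine IsPullback.paste_vert ?_ (isPullback_jC R E)
    have h := (Groth.L05.Point.isPullback_of_mono k π.smoothLocus.ι).flip
    rw [hk] at h
    exact h
  haveI : Smooth (π.smoothLocus.ι ≫ π) := by
    rw [← Scheme.Hom.smoothLocus_eq_top_iff, ← Scheme.Hom.preimage_smoothLocus_eq, Scheme.Opens.ι_preimage_self]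
  haveI hEt : Etale (π.smoothLocus.ι ≫ π) := Groth.L05.UnibranchEtale.etale_of_smooth_of_locallyQuasiFinite _
  haveI : IsLocallyNoetherian (Spec (CommRingCat.of (integralClosure R E))) := LocallyOfFiniteType.isLocallyNoetherian π
  haveI : QuasiCompact (π.smoothLocus.ι ≫ π) := inferInstance
  let N : Over (Spec (CommRingCat.of R)) := Over.mk (π.smoothLocus.ι ≫ π)
  let eN : (Neron.genericFibre R).obj N ≅ Over.mk gE := (Over.isoMk hpb.isoPullback (by
    show hpb.isoPullback.hom ≫ pullback.snd _ _ = gE
    rw [hpb.isoPullback_hom_snd, Category.id_comp]) : Over.mk gE ≅ (Neron.genericFibre R).obj N).symm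
  have hmap : ∀ {Y : Over (Spec (CommRingCat.of R))} (g : Y ⟶ N),
      ((Neron.genericFibre R).map g).left ≫ pullback.fst (π.smoothLocus.ι ≫ π) (Neron.genPt R) =
        pullback.fst Y.hom (Neron.genPt R) ≫ g.left := fun g => by simp [N]
  refine ⟨N, eN, ⟨‹_›, inferInstanceAs (IsSeparated (π.smoothLocus.ι ≫ π)),
    inferInstanceAs (LocallyOfFiniteType (π.smoothLocus.ι ≫ π)), ‹_›, fun Y hY => ?_⟩, hEt,
    Groth.L23.lqf_of_etale (π.smoothLocus.ι ≫ π)⟩
  haveI := hY
  have hYn : Pi1.IsNormalScheme Y.left := Groth.L25.Extend.isNormalScheme_of_smooth Y.hom hS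
  haveI : IsReduced Y.left := Groth.L25.Extend.isReduced_of_normal hYn
  haveI := isDominant_fst R Y.hom
  refine ⟨fun g g' hgg => Over.OverMorphism.ext ?_, fun θ => ?_⟩
  · rw [← cancel_mono π.smoothLocus.ι]
    refine ext_of_isDominant_of_isSeparated π ?_ (pullback.fst Y.hom (Neron.genPt R)) ?_
    · rw [Category.assoc, Category.assoc]; exact (Over.w g).trans (Over.w g').symm
    · have h := congrArg (fun t => t.left ≫ pullback.fst (π.smoothLocus.ι ≫ π) (Neron.genPt R))
        ((cancel_mono eN.hom).1 hgg)
      simp only [hmap] at h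
      rw [reassoc_of% h]
  · obtain ⟨G, hGπ, hG⟩ := exists_extend_generic R E Y.hom hYn θ.left (Over.w θ)
    let l : Y.left ⟶ π.smoothLocus.toScheme := IsOpenImmersion.lift π.smoothLocus.ι G (by
      rw [Scheme.Opens.range_ι]; rintro _ ⟨z, rfl⟩
      exact mem_smoothLocus π hS hT Y.hom G hGπ z)
    have hl : l ≫ π.smoothLocus.ι = G := IsOpenImmersion.lift_fac _ _ _
    let g : Y ⟶ N := Over.homMk l (by
      show l ≫ π.smoothLocus.ι ≫ π = Y.hom
      rw [reassoc_of% hl, hGπ])
    refine ⟨g, ?_⟩
    rw [← cancel_mono eN.inv, Category.assoc, Iso.hom_inv_id, Category.comp_id]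
    refine Over.OverMorphism.ext (pullback.hom_ext ?_ ?_)
    · refine (hmap g).trans ?_
      rw [← cancel_mono π.smoothLocus.ι]
      show (pullback.fst Y.hom (Neron.genPt R) ≫ l) ≫ _ = ((θ.left ≫ hpb.isoPullback.hom) ≫ pullback.fst _ _) ≫ _
      rw [Category.assoc, hl, hG, Category.assoc θ.left, hpb.isoPullback_hom_fst, Category.assoc, hk]
    · exact (Over.w ((Neron.genericFibre R).map g)).trans (Over.w (θ ≫ eN.inv)).symm

end Groth.L05.NeronFinite
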