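import Groth.Agent.L13.Purity.Scheme
import Groth.Agent.L19.NormalSections
import Groth.Agent.L25.Extend.Codim
import Groth.Agent.L16.SecComp.Smooth
import Groth.Agent.L18.NormalExtend
import Mathlib.RingTheory.Etale.Field
import Mathlib.RingTheory.DedekindDomain.IntegralClosure
import Mathlib.AlgebraicGeometry.Normalization
import Mathlib.AlgebraicGeometry.Limits

/-!
# Normalization of a normal base in an étale scheme over it: finite and normal
-/

set_option autoImplicit false
set_option linter.style.haveILetI false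
set_option backward.isDefEq.respectTransparency false

universe u

open CategoryTheory CategoryTheory.Limits AlgebraicGeometry TopologicalSpace Opposite
open scoped TensorProduct

noncomputable section

namespace Groth.L05.NeronFinite

section Algebra

variable (A B : Type u) [CommRing A] [IsDomain A] [IsIntegrallyClosed A] [IsNoetherianRing A]
  [CommRing B] [Algebra A B] [Algebra.Etale A B]

/-- An étale algebra over a normal domain embeds into a finite product of finite separable extensions of the fraction field. -/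
theorem exists_embedding : ∃ (I : Type u) (_ : Finite I) (L : I → Type u) (_ : ∀ i, Field (L i))
    (_ : ∀ i, Algebra (FractionRing A) (L i)) (_ : ∀ i, Algebra A (L i)) (_ : ∀ i, IsScalarTower A (FractionRing A) (L i))
    (φ : B →ₐ[A] Π i, L i), Function.Injective φ ∧
      ∀ i, Module.Finite (FractionRing A) (L i) ∧ Algebra.IsSeparable (FractionRing A) (L i) := by
  obtain ⟨I, hI, L, hL, hKL, e, h⟩ := (Algebra.Etale.iff_exists_algEquiv_prod (K := FractionRing A)
    (A := FractionRing A ⊗[A] B)).1 inferInstance
  letI hAL : ∀ i, Algebra A (L i) := fun i => ((algebraMap (FractionRing A) (L i)).comp (algebraMap A (FractionRing A))).toAlgebra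
  haveI hT : ∀ i, IsScalarTower A (FractionRing A) (L i) := fun i => IsScalarTower.of_algebraMap_eq fun _ => rfl
  refine ⟨I, hI, L, hL, hKL, hAL, hT,
    (e.toAlgHom.restrictScalars A).comp Algebra.TensorProduct.includeRight, ?_, h⟩
  exact e.injective.comp (Algebra.TensorProduct.includeRight_injective (IsFractionRing.injective A (FractionRing A)))

/-- The integral closure of a normal Noetherian domain in a ring mapping injectively to étale algebras is finite. -/
theorem finite_integralClosure {ι : Type u} [Finite ι] (E : ι → Type u) [∀ i, CommRing (E i)] [∀ i, Algebra A (E i)]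
    [∀ i, Algebra.Etale A (E i)] {W : Type u} [CommRing W] [Algebra A W] (φ : W →ₐ[A] Π i, E i)
    (hφ : Function.Injective φ) : Module.Finite A (integralClosure A W) := by
  have h : ∀ i, ∃ (M : Type u) (_ : AddCommGroup M) (_ : Module A M) (_ : IsNoetherian A M)
      (ψ : integralClosure A W →ₗ[A] M), ∀ x, ψ x = 0 → φ x i = 0 := fun i => by
    obtain ⟨I, hI, L, hL, hKL, hAL, hT, χ, hχ, hfin⟩ := exists_embedding A (E i)
    let ψj : ∀ j, integralClosure A W →ₐ[A] integralClosure A (L j) := fun j =>
      AlgHom.mapIntegralClosure ((Pi.evalAlgHom A L j).comp (χ.comp ((Pi.evalAlgHom A E i).comp φ)))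
    haveI : ∀ j, IsNoetherian A (integralClosure A (L j)) := fun j => by
      haveI := (hfin j).1
      haveI := (hfin j).2
      exact IsIntegralClosure.isNoetherian A (FractionRing A) (L j) (integralClosure A (L j))
    refine ⟨Π j, integralClosure A (L j), inferInstance, inferInstance, inferInstance,
      LinearMap.pi fun j => (ψj j).toLinearMap, fun x hx => ?_⟩
    refine hχ (funext fun j => ?_)
    rw [map_zero]
    exact congrArg Subtype.val (congrFun hx j)
  choose M hM1 hM2 hM3 ψ hψ using h
  haveI : IsNoetherian A (Π i, M i) := inferInstance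
  refine Module.Finite.of_injective (LinearMap.pi ψ) ?_
  rw [injective_iff_map_eq_zero]
  intro x hx
  refine Subtype.ext (hφ ?_)
  rw [ZeroMemClass.coe_zero, map_zero]
  exact funext fun i => hψ i x (congrFun hx i)

end Algebra

/-- The normalization of a normal Noetherian scheme in a separated quasi-compact étale scheme over it is finite. -/
theorem isFinite_fromNormalization {S N : Scheme.{u}} [IsLocallyNoetherian S] (hS : Pi1.IsNormalScheme S)
    (g : N ⟶ S) [Etale g] [QuasiCompact g] [QuasiSeparated g] : IsFinite g.fromNormalization := by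
  haveI := fun x : S => (hS x).1
  choose D hD hxD hdom using fun x : S => Groth.L13.Purity.exists_isDomain_nhd x
  have hcov : ⨆ x, D x = ⊤ := top_le_iff.1 fun x _ => Opens.mem_iSup.2 ⟨x, hxD x⟩
  have happ : ∀ x, (g.fromNormalization.app (D x)).hom.Finite := by
    intro x
    haveI := hdom x
    haveI : Nonempty ↥(D x) := ⟨⟨x, hxD x⟩⟩
    haveI : IsIntegrallyClosed Γ(S, D x) := by
      refine IsIntegrallyClosed.of_localization_maximal fun p _ hp => ?_
      let q : PrimeSpectrum Γ(S, D x) := ⟨p, hp.isPrime⟩
      have hy : (hD x).fromSpec q ∈ D x := (hD x).range_fromSpec.le ⟨q, rfl⟩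
      letI : Algebra Γ(S, D x) (S.presheaf.stalk ((hD x).fromSpec q)) :=
        (S.presheaf.germ (D x) _ hy).hom.toAlgebra
      haveI : IsLocalization.AtPrime (S.presheaf.stalk ((hD x).fromSpec q)) p :=
        (hD x).isLocalization_stalk' q hy
      haveI := (hS ((hD x).fromSpec q)).1
      haveI := (hS ((hD x).fromSpec q)).2
      exact IsIntegrallyClosed.of_equiv (IsLocalization.algEquiv p.primeCompl
        (S.presheaf.stalk ((hD x).fromSpec q)) (Localization.AtPrime p)).toRingEquiv
    haveI : IsNoetherianRing Γ(S, D x) := IsLocallyNoetherian.component_noetherian ⟨D x, hD x⟩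
    letI := (g.app (D x)).hom.toAlgebra
    obtain ⟨s, hs, hse⟩ := (isCompact_iff_finite_and_eq_biUnion_affineOpens (U := g ⁻¹ᵁ D x)).1
      (QuasiCompact.isCompact_preimage (f := g) _ (D x).2 (hD x).isCompact : IsCompact ((g ⁻¹ᵁ D x : N.Opens) : Set N))
    haveI := hs.to_subtype
    have hle : ∀ V : s, V.1.1 ≤ g ⁻¹ᵁ D x := fun V => hse ▸ le_iSup₂ (f := fun i (_ : i ∈ s) => (i : N.Opens)) V.1 V.2
    letI : ∀ V : s, Algebra Γ(S, D x) Γ(N, V.1.1) := fun V => (g.appLE (D x) V.1.1 (hle V)).hom.toAlgebra
    haveI : ∀ V : s, Algebra.Etale Γ(S, D x) Γ(N, V.1.1) := fun V =>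
      HasRingHomProperty.appLE (P := @Etale) g inferInstance ⟨D x, hD x⟩ V.1 (hle V)
    let φ : Γ(N, g ⁻¹ᵁ D x) →ₐ[Γ(S, D x)] Π V : s, Γ(N, V.1.1) :=
      { toRingHom := Pi.ringHom fun V : s => (N.presheaf.map (homOfLE (hle V)).op).hom
        commutes' := fun a => funext fun V => rfl }
    have hφ : Function.Injective φ := fun a b hab =>
      TopCat.Sheaf.eq_of_locally_eq' N.sheaf (fun V : s => V.1.1) (g ⁻¹ᵁ D x) (fun V => homOfLE (hle V))
        (fun y hy => by
          rw [hse, Opens.mem_iSup] at hy
          obtain ⟨V, hV⟩ := hy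
          rw [Opens.mem_iSup] at hV
          obtain ⟨hVs, hyV⟩ := hV
          exact Opens.mem_iSup.2 ⟨⟨V, hVs⟩, hyV⟩) a b fun V => congrFun hab V
    have hfin := finite_integralClosure Γ(S, D x) (fun V : s => Γ(N, V.1.1)) φ hφ
    have hb := (ConcreteCategory.isIso_iff_bijective (g.normalizationObjIso (hD x)).inv).1 inferInstance
    rw [Scheme.Hom.fromNormalization_app g (hD x), CommRingCat.hom_comp]
    exact (RingHom.Finite.of_surjective _ hb.2).comp (RingHom.finite_algebraMap.2 hfin)
  rw [HasAffineProperty.iff_of_iSup_eq_top (P := @IsFinite) (fun x => (⟨D x, hD x⟩ : S.affineOpens)) hcov]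
  exact fun x => ⟨(hD x).preimage g.fromNormalization,
    Groth.L13.Purity.morphismRestrict_appTop_of RingHom.Finite _ _ (happ x)⟩

/-- Normality passes to schemes isomorphic to an open piece. -/
theorem isNormal_of_cover {T : Scheme.{u}} (h : ∀ t : T, ∃ (U : Scheme.{u}) (j : U ⟶ T) (u : U),
    IsOpenImmersion j ∧ j u = t ∧ Pi1.IsNormalScheme U) : Pi1.IsNormalScheme T := by
  intro t
  obtain ⟨U, j, u, hj, rfl, hU⟩ := h t
  let e := (asIso (j.stalkMap u)).commRingCatIsoToRingEquiv
  haveI := (hU u).1
  haveI := (hU u).2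
  exact ⟨e.toMulEquiv.isDomain _, IsIntegrallyClosed.of_equiv e.symm⟩

/-- The relative normalization in a normal Noetherian scheme is normal. -/
theorem isNormalScheme_normalization {S X : Scheme.{u}} [IsNoetherian X] (hX : Pi1.IsNormalScheme X)
    (f : X ⟶ S) [QuasiCompact f] [QuasiSeparated f] : Pi1.IsNormalScheme f.normalization := by
  haveI := Groth.L25.Extend.isReduced_of_normal hX
  suffices h : ∀ Z : Closeds X, ∀ hZ : IsOpen (Z : Set X),
      Pi1.IsNormalScheme ((Scheme.Opens.ι (⟨Z, hZ⟩ : X.Opens)) ≫ f).normalization by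
    have h1 := h ⊤ isOpen_univ
    haveI : IsIso (Scheme.Opens.ι (⟨((⊤ : Closeds X) : Set X), isOpen_univ⟩ : X.Opens)) :=
      (isIso_iff_isOpenImmersion_and_surjective _).2 ⟨inferInstance, ⟨fun x => ⟨⟨x, trivial⟩, rfl⟩⟩⟩
    let i := Scheme.Opens.ι (⟨((⊤ : Closeds X) : Set X), isOpen_univ⟩ : X.Opens)
    let a := (i ≫ f).normalizationDesc (i ≫ f.toNormalization) f.fromNormalization (by simp)
    let b := f.normalizationDesc (inv i ≫ (i ≫ f).toNormalization) (i ≫ f).fromNormalization (by simp)
    have hab : b ≫ a = 𝟙 _ := by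
      refine Scheme.Hom.normalization.hom_ext _ _ _ f.fromNormalization ?_ ?_ ?_
      all_goals simp [a, b]
    have hba : a ≫ b = 𝟙 _ := by
      refine Scheme.Hom.normalization.hom_ext _ _ _ (i ≫ f).fromNormalization ?_ ?_ ?_
      all_goals simp [a, b]
    refine isNormal_of_cover fun t => ⟨_, a, b t, ?_, ?_, h1⟩
    · haveI : IsIso a := ⟨b, hba, hab⟩
      infer_instance
    · rw [← Scheme.Hom.comp_apply, hab]; rfl
  intro Z
  induction Z using WellFoundedLT.induction with
  | ind Z ih =>
    intro hZ
    let U : X.Opens := ⟨Z, hZ⟩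
    rcases Set.eq_empty_or_nonempty (Z : Set X) with h0 | ⟨z, hz⟩
    · intro t
      haveI : IsEmpty ↥U.toScheme := ⟨fun a => (h0 ▸ a.2 : a.1 ∈ (∅ : Set X))⟩
      haveI : IsEmpty ↥(U.ι ≫ f).normalization := ⟨fun t => by
        have h := (U.ι ≫ f).toNormalization.denseRange t
        rw [Set.range_eq_empty, closure_empty] at h
        exact h⟩
      exact isEmptyElim t
    have hconn : IsOpen (connectedComponent z) := Groth.L04.SupportSh.isOpen_connectedComponent z
    have hCZ : connectedComponent z ⊆ Z :=
      IsClopen.connectedComponent_subset ⟨Z.isClosed, hZ⟩ hz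
    by_cases heq : connectedComponent z = Z
    · haveI : IsReduced U.toScheme := isReduced_of_isOpenImmersion U.ι
      haveI : IrreducibleSpace ↥U.toScheme := by
        have h := Groth.L16.SecComp.isIrreducible_connectedComponent (fun x => (hX x).1) z
        rw [heq] at h
        exact
          { toPreirreducibleSpace := Subtype.preirreducibleSpace h.isPreirreducible
            toNonempty := ⟨⟨z, hz⟩⟩ }
      haveI : IsIntegral U.toScheme := isIntegral_of_irreducibleSpace_of_isReduced _
      refine Groth.L19.NormalSec.isNormalScheme_normalization (U.ι ≫ f) fun x => ?_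
      haveI := (hX x.1).2
      exact IsIntegrallyClosed.of_equiv (U.stalkIso x).commRingCatIsoToRingEquiv.symm
    · let Z₁ : Closeds X := ⟨connectedComponent z, isClosed_connectedComponent⟩
      let Z₂ : Closeds X := ⟨(Z : Set X) \ connectedComponent z, Z.isClosed.sdiff hconn⟩
      have h₂ : IsOpen (Z₂ : Set X) := hZ.sdiff isClosed_connectedComponent
      have hlt₁ : Z₁ < Z := lt_of_le_of_ne hCZ fun h => heq (congrArg SetLike.coe h)
      have hlt₂ : Z₂ < Z := lt_of_le_of_ne Set.sdiff_subset fun h => by
        have h1 : z ∈ (Z₂ : Set X) := by rw [h]; exact hz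
        exact h1.2 mem_connectedComponent
      let U₁ : X.Opens := ⟨Z₁, hconn⟩
      let U₂ : X.Opens := ⟨Z₂, h₂⟩
      let i₁ := X.homOfLE (show U₁ ≤ U from hCZ)
      let i₂ := X.homOfLE (show U₂ ≤ U from Set.sdiff_subset)
      have hcompl : IsCompl i₁.opensRange i₂.opensRange := by
        have hr : ∀ {V : X.Opens} (h : V ≤ U) (a : ↥U.toScheme), a ∈ (X.homOfLE h).opensRange ↔ a.1 ∈ V := by
          intro V h a
          constructor
          · rintro ⟨b, rfl⟩
            show U.ι (X.homOfLE h b) ∈ V
            rw [← Scheme.Hom.comp_apply, Scheme.homOfLE_ι]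
            exact b.2
          · intro ha
            refine ⟨⟨a.1, ha⟩, U.ι.isOpenEmbedding.injective ?_⟩
            rw [← Scheme.Hom.comp_apply, Scheme.homOfLE_ι]
            rfl
        constructor
        · rw [disjoint_iff]
          ext a
          simp only [Opens.coe_inf, Set.mem_inter_iff, SetLike.mem_coe, Opens.coe_bot, Set.mem_empty_iff_false, iff_false]
          rw [hr, hr]
          exact fun h => h.2.2 h.1
        · rw [codisjoint_iff_le_sup]
          intro a _
          by_cases ha : a.1 ∈ connectedComponent z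
          · exact Or.inl ((hr _ a).2 ha)
          · exact Or.inr ((hr _ a).2 ⟨a.2, ha⟩)
      obtain ⟨e⟩ := nonempty_isColimit_binaryCofanMk_of_isCompl i₁ i₂ hcompl
      haveI : IsLocallyNoetherian U.toScheme := inferInstance
      have e' : ∀ {V : X.Opens} (h : V ≤ U), X.homOfLE h ≫ U.ι ≫ f = V.ι ≫ f := fun h => by
        rw [Scheme.homOfLE_ι_assoc]
      let I := (U.ι ≫ f).normalizationCoprodIso e
      have ncongr : ∀ {V : Scheme.{u}} (g g' : V ⟶ S), g = g' →
          ∀ [QuasiCompact g] [QuasiSeparated g] [QuasiCompact g'] [QuasiSeparated g'],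
          Pi1.IsNormalScheme g.normalization → Pi1.IsNormalScheme g'.normalization := by
        intro V g g' h; subst h; intro _ _ _ _ hn; exact hn
      have n₁ : Pi1.IsNormalScheme (i₁ ≫ U.ι ≫ f).normalization :=
        ncongr _ _ (e' _).symm (ih Z₁ hlt₁ hconn)
      have n₂ : Pi1.IsNormalScheme (i₂ ≫ U.ι ≫ f).normalization :=
        ncongr _ _ (e' _).symm (ih Z₂ hlt₂ h₂)
      refine isNormal_of_cover fun t => ?_
      obtain ⟨(a | a), ha⟩ := (coprodMk (i₁ ≫ U.ι ≫ f).normalization (i₂ ≫ U.ι ≫ f).normalization).surjective (I.inv t)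
      · refine ⟨_, coprod.inl ≫ I.hom, a, inferInstance, ?_, n₁⟩
        rw [Scheme.Hom.comp_apply, ← coprodMk_inl, ha, ← Scheme.Hom.comp_apply, Iso.inv_hom_id]
        rfl
      · refine ⟨_, coprod.inr ≫ I.hom, a, inferInstance, ?_, n₂⟩
        rw [Scheme.Hom.comp_apply, ← coprodMk_inr, ha, ← Scheme.Hom.comp_apply, Iso.inv_hom_id]
        rfl

end Groth.L05.NeronFinite
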