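import Groth.Agent.L05.NeronFinite.Mapping
import Groth.Agent.L05.NeronFinite.Normalization
import Groth.Agent.L23.LocalDimEtale
import Mathlib.AlgebraicGeometry.ZariskisMainTheorem

/-!
# Néron models of separated quasi-compact étale schemes over a dense open of a normal scheme
-/

set_option autoImplicit false
set_option linter.style.haveILetI false
set_option backward.isDefEq.respectTransparency false

universe u

open CategoryTheory CategoryTheory.Limits AlgebraicGeometry TopologicalSpace Opposite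

noncomputable section

namespace Groth.L05.NeronFinite

theorem exists_model {S : Scheme.{u}} [IsNoetherian S] (hS : Pi1.IsNormalScheme S) (S₀ : S.Opens)
    (hd : Dense (S₀ : Set S)) (N₀ : Over (S₀ : Scheme.{u})) [Etale N₀.hom] [IsSeparated N₀.hom] [QuasiCompact N₀.hom] :
    ∃ (N : Over S) (_ : (Over.pullback S₀.ι).obj N ≅ N₀), Etale N.hom ∧ IsSeparated N.hom ∧ QuasiCompact N.hom ∧
      ∀ Z : Over S, Smooth Z.hom → Function.Bijective (fun g : Z ⟶ N => (Over.pullback S₀.ι).map g) := by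
  haveI : QuasiCompact S₀.ι := inferInstance
  let g : N₀.left ⟶ S := N₀.hom ≫ S₀.ι
  haveI : CompactSpace (S₀ : Scheme.{u}) := QuasiCompact.compactSpace_of_compactSpace S₀.ι
  haveI : IsLocallyNoetherian (S₀ : Scheme.{u}) := inferInstance
  haveI : IsNoetherian (S₀ : Scheme.{u}) := { }
  haveI : IsLocallyNoetherian N₀.left := LocallyOfFiniteType.isLocallyNoetherian N₀.hom
  haveI : CompactSpace N₀.left := QuasiCompact.compactSpace_of_compactSpace N₀.hom
  haveI : IsNoetherian N₀.left := { }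
  haveI : Etale g := inferInstance
  haveI : IsSeparated g := inferInstance
  haveI : QuasiCompact g := inferInstance
  haveI : LocallyQuasiFinite g := Groth.L23.lqf_of_etale g
  haveI := isFinite_fromNormalization hS g
  let T := g.normalization
  let π : T ⟶ S := g.fromNormalization
  let j : N₀.left ⟶ T := g.toNormalization
  have hj : j ≫ π = g := g.toNormalization_fromNormalization
  haveI : IsOpenImmersion j := inferInstanceAs (IsOpenImmersion g.toNormalization)
  haveI : LocallyOfFinitePresentation π := Groth.L05.SmoothCrit.lfp_of_noetherian π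
  haveI : IsNoetherian T :=
    { toIsLocallyNoetherian := LocallyOfFiniteType.isLocallyNoetherian π
      toCompactSpace := QuasiCompact.compactSpace_of_compactSpace π }
  have hN : Pi1.IsNormalScheme N₀.left := Groth.L25.Extend.isNormalScheme_of_smooth g hS
  have hT : Pi1.IsNormalScheme T := isNormalScheme_normalization hN g
  have hjS : ∀ n, π (j n) ∈ S₀ := fun n => by
    rw [← Scheme.Hom.comp_apply, hj]
    exact (N₀.hom n).2
  have hjsm : ∀ n, j n ∈ π.smoothLocus := fun n => by
    have h : n ∈ j ⁻¹ᵁ π.smoothLocus := by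
      rw [Scheme.Hom.preimage_smoothLocus_eq]
      haveI : Smooth (j ≫ π) := by rw [hj]; infer_instance
      rw [Scheme.Hom.smoothLocus_eq_top]
      trivial
    exact h
  let D : Set T := closure {t : T | π t ∈ S₀ ∧ t ∉ Set.range j}
  let O : T.Opens := π.smoothLocus ⊓ ⟨Dᶜ, isClosed_closure.isOpen_compl⟩
  have hjO : ∀ n, j n ∈ O := fun n => ⟨hjsm n, fun h => by
    obtain ⟨t, ht, ht'⟩ := mem_closure_iff.1 h _ j.isOpenEmbedding.isOpen_range ⟨n, rfl⟩
    exact ht'.2 ht⟩
  have hOj : ∀ t ∈ O, π t ∈ S₀ → t ∈ Set.range j := fun t ht htS => by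
    by_contra hc
    exact ht.2 (subset_closure ⟨htS, hc⟩)
  have hO : ∀ t ∈ π.smoothLocus, t ∉ O → t ∈ closure {t : T | π t ∈ S₀ ∧ t ∉ O} := fun t ht htO => by
    have h : t ∈ D := by by_contra hc; exact htO ⟨ht, hc⟩
    exact closure_mono (show {t : T | π t ∈ S₀ ∧ t ∉ Set.range j} ⊆ {t : T | π t ∈ S₀ ∧ t ∉ O} from
      fun a ha => ⟨ha.1, fun haO => ha.2 (hOj a haO ha.1)⟩) h
  haveI hsm : Smooth (O.ι ≫ π) := by
    rw [← Scheme.Hom.smoothLocus_eq_top_iff, ← Scheme.Hom.preimage_smoothLocus_eq, eq_top_iff]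
    exact fun a _ => a.2.1
  haveI : Etale (O.ι ≫ π) := Groth.L05.UnibranchEtale.etale_of_smooth_of_locallyQuasiFinite _
  let k : N₀.left ⟶ O.toScheme := IsOpenImmersion.lift O.ι j (by
    rw [Scheme.Opens.range_ι]; rintro _ ⟨n, rfl⟩; exact hjO n)
  have hk : k ≫ O.ι = j := IsOpenImmersion.lift_fac _ _ _
  have hkg : k ≫ O.ι ≫ π = N₀.hom ≫ S₀.ι := by rw [reassoc_of% hk, hj]
  let q : N₀.left ⟶ pullback (O.ι ≫ π) S₀.ι := pullback.lift k N₀.hom hkg
  haveI : IsOpenImmersion k := by
    haveI : IsOpenImmersion (k ≫ O.ι) := by rw [hk]; infer_instance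
    exact IsOpenImmersion.of_comp k O.ι
  haveI : IsOpenImmersion q := by
    haveI : IsOpenImmersion (q ≫ pullback.fst (O.ι ≫ π) S₀.ι) := by rw [pullback.lift_fst]; infer_instance
    exact IsOpenImmersion.of_comp q (pullback.fst (O.ι ≫ π) S₀.ι)
  haveI : Surjective q := ⟨fun t => by
    let o := pullback.fst (O.ι ≫ π) S₀.ι t
    have hoS : π o.1 ∈ S₀ := by
      have h : (O.ι ≫ π) o = S₀.ι (pullback.snd (O.ι ≫ π) S₀.ι t) :=
        congr($(pullback.condition (f := O.ι ≫ π) (g := S₀.ι)) t)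
      exact (show π o.1 = _ from h) ▸ (pullback.snd (O.ι ≫ π) S₀.ι t).2
    obtain ⟨n, hn⟩ := hOj o.1 o.2 hoS
    refine ⟨n, (pullback.fst (O.ι ≫ π) S₀.ι).isOpenEmbedding.injective ?_⟩
    apply O.ι.isOpenEmbedding.injective
    rw [← Scheme.Hom.comp_apply q, pullback.lift_fst, ← Scheme.Hom.comp_apply, hk]
    exact hn⟩
  haveI : IsIso q := (isIso_iff_isOpenImmersion_and_surjective q).2 ⟨inferInstance, inferInstance⟩
  refine ⟨Over.mk (O.ι ≫ π), (Over.isoMk (asIso q) (pullback.lift_snd _ _ _) : N₀ ≅ _).symm, ‹_›, ?_, ?_, fun Z hZ => ?_⟩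
  · exact inferInstanceAs (IsSeparated (O.ι ≫ π))
  · exact inferInstanceAs (QuasiCompact (O.ι ≫ π))
  · haveI := hZ
    exact mapping_open hS S₀ hd π hT O inf_le_left hO Z

end Groth.L05.NeronFinite
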