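import Groth.Agent.S2805
import Groth.Agent.L05.Point.Crit
import Groth.Agent.L05.NeronOpen.Main
import Groth.Agent.L16.SecComp.Smooth
import Groth.Agent.L18.NormalExtend
import Groth.Agent.L23.SchKer
import Groth.Agent.L25.Extend.Codim
import Groth.Agent.L07.Count.Unibranch

/-!
# Finite normal schemes over a normal base: maps from smooth schemes land in the smooth locus and extend
-/

set_option autoImplicit false
set_option linter.style.haveILetI false
set_option backward.isDefEq.respectTransparency false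

universe u

open CategoryTheory CategoryTheory.Limits AlgebraicGeometry TopologicalSpace Opposite

noncomputable section

namespace Groth.L05.NeronFinite

variable {T S Z : Scheme.{u}} (π : T ⟶ S)

/-- A section of a quasi-finite separated morphism from a normal scheme is a local open immersion. -/
theorem exists_nhd_of_section {P : Scheme.{u}} [IsLocallyNoetherian P] (hP : Pi1.IsNormalScheme P)
    (q : P ⟶ Z) [LocallyQuasiFinite q] [IsSeparated q] (σ : Z ⟶ P) (hσ : σ ≫ q = 𝟙 Z) (z : Z) :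
    ∃ (W : P.Opens) (j : W.toScheme ⟶ Z), σ z ∈ W ∧ IsOpenImmersion j ∧ W.ι ≫ q = j := by
  haveI : IsClosedImmersion σ := by
    haveI : IsClosedImmersion (σ ≫ q) := by rw [hσ]; infer_instance
    exact IsClosedImmersion.of_comp σ q
  have hqσ : ∀ a, q (σ a) = a := fun a => by rw [← Scheme.Hom.comp_apply, hσ]; rfl
  have hirr := Groth.L16.SecComp.isIrreducible_connectedComponent (fun x => (hP x).1) (σ z)
  let W : P.Opens := ⟨connectedComponent (σ z), Groth.L04.SupportSh.isOpen_connectedComponent _⟩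
  obtain ⟨μ, hμ⟩ := QuasiSober.sober hirr isClosed_connectedComponent
  have hqμ : q μ ⤳ z := by
    have h1 := (hμ.specializes mem_connectedComponent).map q.continuous
    rwa [hqσ] at h1
  have hgen : σ (q μ) = μ := by
    have h1 : σ (q μ) ∈ connectedComponent (σ z) := by
      have h2 : σ (q μ) ⤳ σ z := hqμ.map σ.continuous
      exact h2.mem_open (Groth.L04.SupportSh.isOpen_connectedComponent _) mem_connectedComponent
    refine (Groth.L07.Count.eq_of_specializes_qf q (hμ.specializes h1) ?_).symm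
    rw [hqσ]
  have hsub : (W : Set P) ⊆ Set.range σ := by
    intro x hx
    have hcl : IsClosed (Set.range σ) := σ.isClosedEmbedding.isClosed_range
    exact (hμ.specializes hx).mem_closed hcl ⟨q μ, hgen⟩
  haveI : IsReduced P := Groth.L25.Extend.isReduced_of_normal hP
  haveI : IsReduced W.toScheme := isReduced_of_isOpenImmersion W.ι
  have hle : σ.ker ≤ W.ι.ker := by
    rw [Groth.L23.SchKer.ker_eq_vanishingIdeal W.ι, ← Scheme.IdealSheafData.le_support_iff_le_vanishingIdeal]
    intro x hx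
    refine σ.range_subset_ker_support ?_
    have hcl : IsClosed (Set.range σ) := σ.isClosedEmbedding.isClosed_range
    exact closure_minimal (by rw [Scheme.Opens.range_ι]; exact hsub) hcl hx
  let j := IsClosedImmersion.lift σ W.ι hle
  have hj : j ≫ σ = W.ι := IsClosedImmersion.lift_fac σ W.ι hle
  haveI : IsOpenImmersion j := by
    refine MorphismProperty.of_isPullback (P := @IsOpenImmersion) (Groth.L05.Point.isPullback_of_mono j σ) ?_
    rw [hj]; infer_instance
  refine ⟨W, j, mem_connectedComponent, inferInstance, ?_⟩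
  rw [← hj, Category.assoc, hσ, Category.comp_id]

/-- A morphism from a smooth scheme to a finite normal scheme over a normal base lands in the smooth locus. -/
theorem mem_smoothLocus [IsLocallyNoetherian S] [IsFinite π] [LocallyOfFinitePresentation π]
    (hS : Pi1.IsNormalScheme S) (hT : Pi1.IsNormalScheme T) (f : Z ⟶ S) [Smooth f] (h : Z ⟶ T)
    (w : h ≫ π = f) (z : Z) : h z ∈ π.smoothLocus := by
  let P := pullback π f
  let σ : Z ⟶ P := pullback.lift h (𝟙 Z) (by simp [w])
  haveI : Smooth (pullback.fst π f) := MorphismProperty.pullback_fst _ _ inferInstance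
  haveI : IsFinite (pullback.snd π f) := MorphismProperty.pullback_snd _ _ inferInstance
  haveI : IsLocallyNoetherian T := LocallyOfFiniteType.isLocallyNoetherian π
  haveI : IsLocallyNoetherian P := LocallyOfFiniteType.isLocallyNoetherian (pullback.fst π f)
  have hP : Pi1.IsNormalScheme P := Groth.L25.Extend.isNormalScheme_of_smooth (pullback.fst π f) hT
  obtain ⟨W, j, hW, hj, hjq⟩ := exists_nhd_of_section hP (pullback.snd π f) σ (pullback.lift_snd _ _ _) z
  have hsm : Smooth (W.ι ≫ pullback.fst π f ≫ π) := by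
    rw [pullback.condition, ← Category.assoc, hjq]
    infer_instance
  obtain ⟨V, hV, hVs⟩ := Groth.Agent.S2805.result π (pullback.fst π f ≫ π) (pullback.fst π f) rfl (σ z)
    (Flat.stalkMap _ _) ⟨W, hW, hsm⟩
  haveI := hVs
  have hz : (pullback.fst π f) (σ z) = h z := by
    rw [← Scheme.Hom.comp_apply, pullback.lift_fst]
  have hV' : h z ∈ V := hz ▸ hV
  have h1 : (⟨h z, hV'⟩ : V) ∈ V.ι ⁻¹ᵁ π.smoothLocus := by
    rw [Scheme.Hom.preimage_smoothLocus_eq, Scheme.Hom.smoothLocus_eq_top]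
    trivial
  exact h1

/-- Two maps from a smooth scheme over a normal base agree if they do over a dense open. -/
theorem ext_of_dense [IsSeparated π] (hS : Pi1.IsNormalScheme S) (S₀ : S.Opens) (hd : Dense (S₀ : Set S))
    (f : Z ⟶ S) [Smooth f] (a b : Z ⟶ T) (ha : a ≫ π = f) (hb : b ≫ π = f)
    (hab : (f ⁻¹ᵁ S₀).ι ≫ a = (f ⁻¹ᵁ S₀).ι ≫ b) : a = b := by
  haveI : IsReduced Z := Groth.L25.Extend.isReduced_of_normal (Groth.L25.Extend.isNormalScheme_of_smooth f hS)
  haveI : IsDominant (f ⁻¹ᵁ S₀).ι := ⟨by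
    rw [DenseRange, Scheme.Opens.range_ι]
    exact Groth.L05.NeronOpen.dense_preimage (f := f) S₀ hd⟩
  exact ext_of_isDominant_of_isSeparated π (ha.trans hb.symm) (f ⁻¹ᵁ S₀).ι hab

/-- Maps to an integral scheme over the base extend from a dense open to a smooth scheme over a normal base. -/
theorem exists_extend [IsLocallyNoetherian S] [IsIntegralHom π] (hS : Pi1.IsNormalScheme S) (S₀ : S.Opens)
    (hd : Dense (S₀ : Set S)) (f : Z ⟶ S) [Smooth f] (g₀ : (f ⁻¹ᵁ S₀).toScheme ⟶ T)
    (w : g₀ ≫ π = (f ⁻¹ᵁ S₀).ι ≫ f) : ∃ g : Z ⟶ T, g ≫ π = f ∧ (f ⁻¹ᵁ S₀).ι ≫ g = g₀ := by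
  haveI : IsLocallyNoetherian Z := LocallyOfFiniteType.isLocallyNoetherian f
  have hZ : Pi1.IsNormalScheme Z := Groth.L25.Extend.isNormalScheme_of_smooth f hS
  haveI : IsReduced Z := Groth.L25.Extend.isReduced_of_normal hZ
  let C : Z → Z.Opens := fun z => ⟨connectedComponent z, Groth.L04.SupportSh.isOpen_connectedComponent z⟩
  have hcov : IsOpenCover C := IsOpenCover.mk (top_le_iff.mp fun z _ => Opens.mem_iSup.mpr ⟨z, mem_connectedComponent⟩)
  let U₀ := f ⁻¹ᵁ S₀
  have hC : ∀ z, ∃ g : (C z).toScheme ⟶ T, g ≫ π = (C z).ι ≫ f ∧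
      ((C z).ι ⁻¹ᵁ U₀).ι ≫ g = ((C z).ι ∣_ U₀) ≫ g₀ := fun z => by
    haveI : IsReduced (C z).toScheme := isReduced_of_isOpenImmersion (C z).ι
    haveI : IrreducibleSpace ↥(C z).toScheme := by
      have h := Groth.L16.SecComp.isIrreducible_connectedComponent (fun x => (hZ x).1) z
      exact
        { toPreirreducibleSpace := Subtype.preirreducibleSpace h.isPreirreducible
          toNonempty := ⟨⟨z, mem_connectedComponent⟩⟩ }
    haveI : IsIntegral (C z).toScheme := isIntegral_of_irreducibleSpace_of_isReduced _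
    haveI : Smooth ((C z).ι ≫ f) := inferInstance
    have hn : Pi1.IsNormalScheme (C z).toScheme :=
      Groth.L25.Extend.isNormalScheme_of_smooth ((C z).ι ≫ f) hS
    obtain ⟨g, hg, hgπ⟩ := Groth.L18.exists_extend_of_isIntegralHom hn π ((C z).ι ⁻¹ᵁ U₀)
      (Groth.L05.NeronOpen.dense_preimage (f := (C z).ι ≫ f) S₀ hd) (((C z).ι ∣_ U₀) ≫ g₀) ((C z).ι ≫ f)
      (by rw [Category.assoc, w, ← Category.assoc, morphismRestrict_ι, Category.assoc])
    exact ⟨g, hgπ, hg⟩
  choose g hgπ hg using hC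
  let 𝒰 := Z.openCoverOfIsOpenCover C hcov
  have hglue : ∀ a b : Z, pullback.fst (C a).ι (C b).ι ≫ g a = pullback.snd (C a).ι (C b).ι ≫ g b := fun a b => by
    refine ext_of_dense π hS S₀ hd (pullback.fst (C a).ι (C b).ι ≫ (C a).ι ≫ f) _ _
      (by rw [Category.assoc, hgπ])
      (by rw [Category.assoc, hgπ, ← Category.assoc, ← pullback.condition, Category.assoc]) ?_
    let O := (pullback.fst (C a).ι (C b).ι ≫ (C a).ι ≫ f) ⁻¹ᵁ S₀
    let la : O.toScheme ⟶ ((C a).ι ⁻¹ᵁ U₀).toScheme :=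
      IsOpenImmersion.lift ((C a).ι ⁻¹ᵁ U₀).ι (O.ι ≫ pullback.fst _ _) (by
        rw [Scheme.Opens.range_ι]; rintro _ ⟨t, rfl⟩; exact t.2)
    let lb : O.toScheme ⟶ ((C b).ι ⁻¹ᵁ U₀).toScheme :=
      IsOpenImmersion.lift ((C b).ι ⁻¹ᵁ U₀).ι (O.ι ≫ pullback.snd _ _) (by
        rw [Scheme.Opens.range_ι]; rintro _ ⟨t, rfl⟩
        show f ((pullback.snd (C a).ι (C b).ι ≫ (C b).ι) t.1) ∈ S₀
        rw [← pullback.condition]; exact t.2)
    show O.ι ≫ pullback.fst _ _ ≫ g a = O.ι ≫ pullback.snd _ _ ≫ g b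
    have hla : la ≫ ((C a).ι ⁻¹ᵁ U₀).ι = O.ι ≫ pullback.fst (C a).ι (C b).ι := IsOpenImmersion.lift_fac _ _ _
    have hlb : lb ≫ ((C b).ι ⁻¹ᵁ U₀).ι = O.ι ≫ pullback.snd (C a).ι (C b).ι := IsOpenImmersion.lift_fac _ _ _
    rw [← Category.assoc, ← hla,
      Category.assoc, hg, ← Category.assoc O.ι (pullback.snd _ _),
      ← hlb, Category.assoc, hg,
      ← Category.assoc, ← Category.assoc]
    congr 1
    rw [← cancel_mono U₀.ι, Category.assoc, Category.assoc, morphismRestrict_ι, morphismRestrict_ι,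
      ← Category.assoc la, ← Category.assoc lb, hla, hlb, Category.assoc, Category.assoc,
      pullback.condition]
  let G : Z ⟶ T := 𝒰.glueMorphisms g hglue
  refine ⟨G, ?_, ?_⟩
  · refine 𝒰.hom_ext _ _ fun z => ?_
    rw [← Category.assoc, Scheme.Cover.ι_glueMorphisms]
    exact hgπ z
  · refine Scheme.Cover.hom_ext (𝒰.pullback₁ U₀.ι) _ _ fun z => ?_
    show pullback.fst U₀.ι (C z).ι ≫ U₀.ι ≫ G = pullback.fst U₀.ι (C z).ι ≫ g₀
    rw [pullback.condition_assoc, show (C z).ι ≫ G = g z from 𝒰.ι_glueMorphisms _ _ z]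
    let l : pullback U₀.ι (C z).ι ⟶ ((C z).ι ⁻¹ᵁ U₀).toScheme :=
      IsOpenImmersion.lift ((C z).ι ⁻¹ᵁ U₀).ι (pullback.snd _ _) (by
        rw [Scheme.Opens.range_ι]; rintro _ ⟨t, rfl⟩
        show (C z).ι ((pullback.snd U₀.ι (C z).ι) t) ∈ U₀
        rw [← Scheme.Hom.comp_apply, ← pullback.condition]
        exact (pullback.fst U₀.ι (C z).ι t).2)
    have hl : l ≫ ((C z).ι ⁻¹ᵁ U₀).ι = pullback.snd U₀.ι (C z).ι := IsOpenImmersion.lift_fac _ _ _
    rw [← hl, Category.assoc, hg,
      ← Category.assoc]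
    congr 1
    rw [← cancel_mono U₀.ι, Category.assoc, morphismRestrict_ι, ← Category.assoc, hl,
      pullback.condition]

end Groth.L05.NeronFinite
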